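import Mathlib
import Cfsg.Agent.H32.SFConstr
import Cfsg.Agent.SigO.Fin

/-!
The functor `a ↦ O(C(a))` when all 2-local subgroups are 2-constrained: unconditional version, from the
completeness theorem for functors with values of odd order.
-/

set_option autoImplicit false
set_option linter.all false

namespace Cfsg.Agent.SigO

open Subgroup SigF H32.SFB

universe u

variable {G : Type u} [Group G] [Finite G]

/-- The solvable signalizer functor theorem for the prime 2. -/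
theorem complete_two {A : Subgroup G} (hA : Cfsg.IsElementaryAbelian 2 A) (hA3 : 2 ^ 3 ≤ Nat.card A)
    {θ : G → Subgroup G} (hC : ∀ a ∈ A, a ≠ 1 → θ a ≤ Subgroup.centralizer {a})
    (hp' : ∀ a ∈ A, a ≠ 1 → ¬ 2 ∣ Nat.card (θ a))
    (hinv : ∀ a ∈ A, a ≠ 1 → A ≤ Subgroup.normalizer ((θ a : Subgroup G) : Set G))
    (hbal : ∀ a ∈ A, a ≠ 1 → ∀ b ∈ A, b ≠ 1 → θ a ⊓ Subgroup.centralizer {b} ≤ θ b) :
    Complete 2 θ A := by
  haveI : Fact (Nat.Prime 2) := ⟨Nat.prime_two⟩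
  obtain ⟨-, X, hX, hX2, hXθ⟩ := isComplete_of_odd hA hA3
    ⟨hC, hp', fun a ha h1 b hb x hx => (Subgroup.mem_normalizer_iff.1 (hinv a ha h1 hb) x).1 hx, hbal⟩
    (fun a ha h1 => Nat.not_even_iff_odd.1 fun h => hp' a ha h1 h.two_dvd)
  have hWX : W θ A ≤ X := W_le fun a ha h1 => (hXθ a ha h1).ge.trans inf_le_left
  refine ⟨fun h => hX2 (h.trans (Subgroup.card_dvd_of_le hWX)), fun a ha h1 => le_antisymm ?_ ?_, ?_⟩
  · exact (inf_le_inf_right _ hWX).trans (hXθ a ha h1).le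
  · exact le_inf (le_W ha h1) (hC a ha h1)
  · intro b hb
    rw [conj_mem_iff_map, W, Subgroup.map_iSup]
    refine iSup_congr fun a => ?_
    exact conj_mem_iff_map.1 (hinv a.1 a.2.1 a.2.2 hb)

theorem allConstr_complete (h : AllConstr G) {A : Subgroup G} (hA : Cfsg.IsElementaryAbelian 2 A)
    (hA3 : 2 ^ 3 ≤ Nat.card A) : Complete 2 (fun a : G => Cfsg.centralizerPPrimeCore 2 a) A := by
  haveI : Fact (Nat.Prime 2) := ⟨Nat.prime_two⟩
  refine complete_two hA hA3 (fun a _ _ => Bal1.cppc_le a) (fun a _ _ => Bal1.cppc_not_dvd a)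
    (fun a ha _ => Bal1.cppc_normal' (le_centralizer_of_elem hA ha)) ?_
  intro a ha h1 b hb h2
  exact Bal1.balance_of_pConstrained (SigF.elem_comm hA ha hb) (H49.isPGroup_zpowers_sq (hA.2 a ha))
    (h.centralizer (hA.2 b hb) h2)

theorem allConstr_W_eq (h : AllConstr G) {R V : Subgroup G} (hR : IsPGroup 2 R)
    (hV : Cfsg.IsElementaryAbelian 2 V) (hV3 : 2 ^ 3 ≤ Nat.card V) (hRV : R ≤ Subgroup.normalizer (V : Set G))
    {B : Subgroup G} (hBR : B ≤ R) (hB : ¬ Cfsg.PRankLE 2 1 ↥B) :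
    W (fun a : G => Cfsg.centralizerPPrimeCore 2 a) B = W (fun a : G => Cfsg.centralizerPPrimeCore 2 a) V := by
  haveI : Fact (Nat.Prime 2) := ⟨Nat.prime_two⟩
  obtain ⟨E, hEB, hE, hE2⟩ := exists_elem_of_rank hB
  have hcomp : ∀ A : Subgroup G, Cfsg.IsElementaryAbelian 2 A → 2 ^ 3 ≤ Nat.card A →
      Complete 2 (fun a : G => Cfsg.centralizerPPrimeCore 2 a) A := fun A hA hA3 => allConstr_complete h hA hA3
  apply le_antisymm
  · apply W_le
    intro b hb h1
    obtain ⟨z, hz, hz2⟩ := exists_inv_zpowers hR (hBR hb) h1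
    refine (h.mono hR (hBR hb) hz hz2).trans ?_
    have h3 := inf_centralizer_eq hcomp hV hV3 (sq_of_order hz2).1 (sq_of_order hz2).2
      (hRV ((Subgroup.zpowers_le.2 (hBR hb)) hz))
    rw [← h3]
    exact inf_le_left
  · rw [← W_eq_of_normal hcomp hV hV3 (fun g _ a _ _ => cppc_conj g a) hE hE2 ((hEB.trans hBR).trans hRV)]
    exact W_mono hEB

end Cfsg.Agent.SigO
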